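import Cfsg.Agent.KFacts.OddLift.Basic
set_option linter.all false

/-!
# Odd lifts: one step of a chain, and the bound for the multiplier

* `clo B n`: the subgroup generated by `B 0, …, B (n - 1)`.
* `Cov.rels_eq_one`: a list of relators of type `okr` trivial in `X` is trivial for the odd lifts.
* `Cov.ev_flatten_eq_one`, `Cov.prod_eq_one`: a product of pairwise commuting conjugates of powers of letters.
* `stepOK`, `step`: one coset enumeration `⟨B 0, …, B (n - 1)⟩` over `⟨B 0, …, B (m - 1)⟩`.
* `Cov.card_ker_le`: `|L| ≤ k |X|` implies `|ker| ≤ k`.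
* `not_dvd_of_cov`: a bound for the 2-groups `ker` of `Cov π` bounds the 2-part of every central extension.
-/

set_option autoImplicit false
set_option linter.style.haveILetI false

namespace Cfsg.Agent.KFacts.OddLift.Basic

open Subgroup Cfsg.Agent.SporadicRecognition.CosetCert Cfsg.Agent.SporadicRecognition.CosetCertHyp

universe u v

section Step

variable {G : Type*} [Group G]

/-- the subgroup generated by the first `n` letters -/
def clo (B : ℕ → G) (n : ℕ) : Subgroup G := closure {x | ∃ i < n, B i = x}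

theorem mem_clo (B : ℕ → G) {i n : ℕ} (h : i < n) : B i ∈ clo B n := subset_closure ⟨i, h, rfl⟩

theorem ev_lt_congr (b : ℕ → G) {n k : ℕ} (hnk : n ≤ k) {r : List ℕ} (hr : ∀ y ∈ r, y < 2 * n) :
    ev (lt b n) r = ev (lt b k) r := by
  induction r with
  | nil => rfl
  | cons y r ih =>
    rw [ev_cons, ev_cons, ih fun z hz => hr z (List.mem_cons_of_mem _ hz)]
    have hy := hr y List.mem_cons_self
    have hy2 : y < 2 * k := hy.trans_le (Nat.mul_le_mul_left 2 hnk)
    congr 1
    unfold lt
    rw [if_pos hy, if_pos hy2]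

/-- base of the chain -/
theorem base {B : ℕ → G} {k : ℕ} (hk : 0 < k) (h : B 0 ^ k = 1) :
    Finite (clo B 1) ∧ Nat.card (clo B 1) ≤ k := by
  have h1 : clo B 1 = zpowers (B 0) := by
    rw [zpowers_eq_closure, clo]
    congr 1
    ext x
    constructor
    · rintro ⟨i, hi, rfl⟩
      rw [Nat.lt_one_iff.1 hi]
      rfl
    · intro hx
      exact ⟨0, Nat.zero_lt_one, hx.symm⟩
  have hfin : IsOfFinOrder (B 0) := isOfFinOrder_iff_pow_eq_one.2 ⟨k, hk, h⟩
  rw [h1]
  refine ⟨?_, ?_⟩
  · exact (Set.finite_coe_iff.2 (finite_zpowers.2 hfin) : Finite (zpowers (B 0) : Set G))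
  · rw [Nat.card_zpowers]
    exact Nat.le_of_dvd hk (orderOf_dvd_of_pow_eq_one h)

/-- tests for one step -/
def stepOK (C : Cert) (rels subw : List (List ℕ)) (n m : ℕ) : Bool :=
  Nat.beq C.k (2 * n) && ((List.range (2 * n)).all fun x => Nat.beq (C.inv x) (iv x)) &&
    (rels.all fun r => r.all fun y => Nat.blt y (2 * n)) &&
    (subw == (List.range m).map fun i => [2 * i]) && Nat.ble m n && checkHyp C rels subw

/-- **One step of the chain.** -/
theorem step {B : ℕ → G} (C : Cert) (rels subw : List (List ℕ)) {n m k N M : ℕ} (hnk : n ≤ k)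
    (hok : stepOK C rels subw n m = true) (hrel : ∀ r ∈ rels, ev (lt B k) r = 1) (part : Part C 0 C.N N)
    (hm : Finite (clo B m) ∧ Nat.card (clo B m) ≤ M) :
    Finite (clo B n) ∧ Nat.card (clo B n) ≤ N * M := by
  unfold stepOK at hok
  simp only [Bool.and_eq_true] at hok
  obtain ⟨⟨⟨⟨⟨h1, h2⟩, h3⟩, h4⟩, h5⟩, h6⟩ := hok
  have hk : C.k = 2 * n := Nat.eq_of_beq_eq_true h1
  have hmn : m ≤ n := Nat.le_of_ble_eq_true h5
  have hsub : subw = (List.range m).map fun i => [2 * i] := by simpa using h4
  have hfin := hm.1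
  have hyp : Hyp C (clo B m) (lt B n) := by
    refine hyp_of_checks (g := lt B n) _ C rels subw ?_ ?_ ?_ ?_ h6
    · rw [hk]; exact lt_top B n
    · intro x hx
      rw [hk] at hx ⊢
      have h7 : C.inv x = iv x := Nat.eq_of_beq_eq_true (List.all_eq_true.1 h2 x (List.mem_range.2 hx))
      rw [h7]
      exact lt_hinv B n x hx
    · intro r hr
      have h7 := List.all_eq_true.1 h3 r hr
      rw [ev_lt_congr B hnk (all_lt h7)]
      exact hrel r hr
    · intro s hs
      rw [hsub, List.mem_map] at hs
      obtain ⟨i, hi, rfl⟩ := hs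
      have hi := List.mem_range.1 hi
      rw [ev_cons, ev_nil, mul_one, lt_even B n (by omega) (by omega)]
      have : 2 * i / 2 = i := by omega
      rw [this]
      exact mem_clo B hi
  obtain ⟨hf, hc⟩ := card_closure_le _ _ _ hyp part
  have he : Subgroup.closure (lt B n '' {x | x < C.k}) = clo B n := by
    rw [hk]
    exact closure_lt B n
  rw [he] at hf hc
  exact ⟨hf, hc.trans (Nat.mul_le_mul_left _ hm.2)⟩

end Step

theorem odd_mul {G : Type*} [Group G] {a c : G} (h : Commute a c) (ha : Odd (orderOf a)) (hc : Odd (orderOf c)) :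
    Odd (orderOf (a * c)) := by
  refine Odd.of_dvd_nat (ha.mul hc) (orderOf_dvd_of_pow_eq_one ?_)
  rw [h.mul_pow, pow_mul, pow_orderOf_eq_one, one_pow, one_mul, mul_comm, pow_mul, pow_orderOf_eq_one, one_pow]

namespace Cov

variable {L X : Type*} [Group L] [Group X] {π : L →* X}

/-- An element of odd order commutes with everything it commutes with modulo the kernel. -/
theorem commute_of_odd (h : Cov π) {a c : L} (ha : Odd (orderOf a)) (hac : Commute (π a) (π c)) :
    Commute a c := by
  have h1 : c * a * c⁻¹ = a := by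
    refine h.eq_of_odd (odd_conj ha c) ha ?_
    rw [map_mul, map_mul, map_inv, ← hac.eq, mul_inv_cancel_right]
  exact (mul_inv_eq_iff_eq_mul.1 h1).symm

variable {b : ℕ → X} {B : ℕ → L}

theorem map_word (hB : ∀ i, π (B i) = b i) (n : ℕ) (w : List ℕ) : π (ev (lt B n) w) = ev (lt b n) w := by
  rw [map_ev_lt]
  congr 2
  funext i
  exact hB i

/-- **A list of relators holds exactly for the odd lifts.** -/
theorem rels_eq_one (h : Cov π) (hB : ∀ i, π (B i) = b i) (hBo : ∀ i, Odd (orderOf (B i))) {n : ℕ}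
    {odd : List (List ℕ)} (hodd : ∀ u ∈ odd, Odd (orderOf (ev (lt b n) u))) {rels : List (List ℕ)}
    (hok : (rels.all fun r => okr odd r) = true) (h1 : ∀ r ∈ rels, ev (lt b n) r = 1) :
    ∀ r ∈ rels, ev (lt B n) r = 1 := fun r hr =>
  h.ev_eq_one hB hBo hodd (List.all_eq_true.1 hok r hr) (h1 r hr)

/-- product of pairwise commuting words of odd order -/
theorem ev_flatten_eq_one (h : Cov π) (hB : ∀ i, π (B i) = b i) (hBo : ∀ i, Odd (orderOf (B i))) {n : ℕ}
    {ws : List (List ℕ)} (hp : ∀ w ∈ ws, pal w.length w = true)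
    (hc : ws.Pairwise fun u v => Commute (ev (lt b n) u) (ev (lt b n) v))
    (h1 : ev (lt b n) ws.flatten = 1) : ev (lt B n) ws.flatten = 1 := by
  have hgo := odd_lt (n := n) hBo
  have hgi := lt_iv B n
  have hodd : ∀ w ∈ ws, Odd (orderOf (ev (lt B n) w)) := fun w hw => odd_ev_pal hgo hgi (hp w hw)
  have key : Odd (orderOf (ev (lt B n) ws.flatten)) := by
    clear h1 hp
    induction ws with
    | nil => rw [List.flatten_nil, ev_nil, orderOf_one]; exact odd_one
    | cons w ws ih =>
      rw [List.pairwise_cons] at hc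
      rw [List.flatten_cons, ev_append]
      have hw := hodd w List.mem_cons_self
      refine odd_mul ?_ hw (ih hc.2 fun u hu => hodd u (List.mem_cons_of_mem _ hu))
      refine h.commute_of_odd hw ?_
      rw [map_word hB, map_word hB]
      have hc1 := hc.1
      clear ih hc hodd hw
      induction ws with
      | nil => rw [List.flatten_nil, ev_nil]; exact Commute.one_right _
      | cons v ws ih =>
        rw [List.flatten_cons, ev_append]
        exact (hc1 v List.mem_cons_self).mul_right (ih fun u hu => hc1 u (List.mem_cons_of_mem _ hu))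
  refine h.eq_of_odd key (by rw [orderOf_one]; exact odd_one) ?_
  rw [map_word hB, h1, map_one]

end Cov

/-- the words `ws` are conjugates of powers of letters and commute pairwise because of the words in `K` -/
def okProd (K : List (List ℕ)) (ws : List (List ℕ)) : Bool :=
  (ws.all fun w => pal w.length w) &&
    (ws.all fun u => ws.all fun v => u == v ||
      K.contains (u ++ v ++ (invw iv u ++ invw iv v)) || K.contains (v ++ u ++ (invw iv v ++ invw iv u)))

theorem commute_of_word {X : Type*} [Group X] {b : ℕ → X} {n : ℕ} {u v : List ℕ}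
    (h : ev (lt b n) (u ++ v ++ (invw iv u ++ invw iv v)) = 1) : Commute (ev (lt b n) u) (ev (lt b n) v) := by
  rw [ev_append, ev_append, ev_append, ev_invw_iv, ev_invw_iv, mul_eq_one_iff_eq_inv, mul_inv_rev, inv_inv,
    inv_inv] at h
  exact h

namespace Cov

variable {L X : Type*} [Group L] [Group X] {π : L →* X} {b : ℕ → X} {B : ℕ → L}

/-- **The relator `ws.flatten` holds exactly for the odd lifts.** -/
theorem prod_eq_one (h : Cov π) (hB : ∀ i, π (B i) = b i) (hBo : ∀ i, Odd (orderOf (B i))) {n : ℕ}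
    {K ws : List (List ℕ)} (hK : ∀ r ∈ K, ev (lt b n) r = 1) (hok : okProd K ws = true)
    (h1 : ev (lt b n) ws.flatten = 1) : ev (lt B n) ws.flatten = 1 := by
  unfold okProd at hok
  rw [Bool.and_eq_true] at hok
  have hcom : ∀ u ∈ ws, ∀ v ∈ ws, Commute (ev (lt b n) u) (ev (lt b n) v) := by
    intro u hu v hv
    have h2 := List.all_eq_true.1 (List.all_eq_true.1 hok.2 u hu) v hv
    rw [Bool.or_eq_true, Bool.or_eq_true] at h2
    rcases h2 with (h2 | h2) | h2
    · have : u = v := by simpa using h2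
      rw [this]
    · exact commute_of_word (hK _ (List.contains_iff_mem.1 h2))
    · exact (commute_of_word (hK _ (List.contains_iff_mem.1 h2))).symm
  refine h.ev_flatten_eq_one hB hBo (fun w hw => List.all_eq_true.1 hok.1 w hw) ?_ h1
  rw [List.pairwise_iff_getElem]
  exact fun i j _ _ _ => hcom _ (List.getElem_mem _) _ (List.getElem_mem _)

/-- the order of the kernel -/
theorem card_ker_le (h : Cov π) (hB : ∀ i, π (B i) = b i) {n : ℕ} (hgen : clo b n = ⊤) {k : ℕ}
    (hX : 0 < Nat.card X) (hm : Finite (clo B n) ∧ Nat.card (clo B n) ≤ k * Nat.card X) :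
    Finite L ∧ Nat.card π.ker ≤ k := by
  have htop : clo B n = ⊤ := h.closure_eq_top hB hgen
  rw [htop] at hm
  have hfin := hm.1
  have hL : Finite L := (Subgroup.topEquiv (G := L)).toEquiv.finite_iff.1 hfin
  refine ⟨hL, ?_⟩
  have h1 : Nat.card L ≤ k * Nat.card X := by
    have := hm.2
    rwa [Subgroup.card_top] at this
  have h2 : Nat.card L = Nat.card X * Nat.card π.ker := by
    rw [← π.ker.index_mul_card, Subgroup.index_ker, MonoidHom.range_eq_top.2 h.surj, Subgroup.card_top]
  rw [h2, mul_comm] at h1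
  exact Nat.le_of_mul_le_mul_right h1 hX

end Cov

theorem commutator_top_of_surj' {L M : Type*} [Group L] [Group M] (f : L →* M)
    (hf : Function.Surjective f) (hL : commutator L = ⊤) : commutator M = ⊤ := by
  rw [commutator_def, ← Subgroup.map_top_of_surjective f hf, ← Subgroup.map_commutator,
    ← commutator_def, hL]

/-- A bound for the central extensions by 2-groups bounds the 2-part of every central extension. -/
theorem not_dvd_of_cov {X : Type v} [Group X] {e : ℕ}
    (hb : ∀ (L : Type u) [Group L] [Finite L] (π : L →* X), Cov π → Nat.card π.ker < e)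
    {K : Type u} [Group K] [Finite K] (hK : commutator K = ⊤) {f : K →* X} (hf : Function.Surjective f)
    (hZ : f.ker ≤ center K) {j : ℕ} (hj : e ≤ 2 ^ j) : ¬ 2 ^ j ∣ Nat.card f.ker := by
  classical
  intro hdvd
  have hcomm : ∀ a ∈ f.ker, ∀ g : K, g * a = a * g := fun a ha g => mem_center_iff.1 (hZ ha) g
  let N : Subgroup K :=
    { carrier := {x | x ∈ f.ker ∧ Odd (orderOf x)}
      one_mem' := ⟨f.ker.one_mem, by rw [orderOf_one]; exact odd_one⟩
      mul_mem' := by
        rintro a c ⟨ha, hao⟩ ⟨hc, hco⟩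
        exact ⟨f.ker.mul_mem ha hc, odd_mul (hcomm c hc a) hao hco⟩
      inv_mem' := by
        rintro a ⟨ha, hao⟩
        exact ⟨f.ker.inv_mem ha, by rwa [orderOf_inv]⟩ }
  have hmem : ∀ x, x ∈ N ↔ x ∈ f.ker ∧ Odd (orderOf x) := fun x => Iff.rfl
  have hle : N ≤ f.ker := fun x hx => hx.1
  have hn : N.Normal := ⟨fun n hn g => by
    rw [hcomm n (hle hn) g, mul_inv_cancel_right]; exact hn⟩
  let q := QuotientGroup.mk' N
  have hq : Function.Surjective q := QuotientGroup.mk'_surjective _
  have hqone : ∀ x, q x = 1 ↔ x ∈ N := fun x => QuotientGroup.eq_one_iff x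
  let π : K ⧸ N →* X := QuotientGroup.lift N f hle
  have hπ : ∀ x, π (q x) = f x := fun _ => rfl
  have hker : π.ker = f.ker.map q := by
    ext c
    obtain ⟨c, rfl⟩ := hq c
    rw [MonoidHom.mem_ker, hπ]
    constructor
    · intro h
      exact ⟨c, h, rfl⟩
    · rintro ⟨d, hd, hdc⟩
      have h1 : f d = 1 := hd
      rw [← hπ, ← hdc, hπ, h1]
  have hcov : Cov π := by
    refine ⟨fun y => (hf y).imp' q fun x hx => hx, ?_, ?_, commutator_top_of_surj' q hq hK⟩
    · rw [hker]
      rintro _ ⟨d, hd, rfl⟩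
      rw [mem_center_iff]
      intro g
      obtain ⟨g, rfl⟩ := hq g
      rw [← map_mul, ← map_mul, hcomm d hd g]
    · rw [hker]
      rintro ⟨_, d, hd, rfl⟩
      obtain ⟨k, m, hmo, hkm⟩ := Nat.exists_eq_two_pow_mul_odd (orderOf_pos d).ne'
      refine ⟨k, Subtype.ext ?_⟩
      show q d ^ 2 ^ k = 1
      rw [← map_pow, hqone, hmem]
      refine ⟨f.ker.pow_mem hd _, ?_⟩
      have : orderOf (d ^ 2 ^ k) = m := by
        rw [orderOf_pow_of_dvd (by positivity) (by rw [hkm]; exact Dvd.intro _ rfl), hkm,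
          Nat.mul_div_cancel_left _ (by positivity)]
      rwa [this]
  have hlt := hb (K ⧸ N) π hcov
  have hodd : Odd (Nat.card N) := by
    by_contra hcon
    rw [Nat.not_odd_iff_even] at hcon
    have : Fact (Nat.Prime 2) := ⟨Nat.prime_two⟩
    obtain ⟨x, hx⟩ := exists_prime_orderOf_dvd_card' (G := N) 2 hcon.two_dvd
    have h1 := x.2.2
    rw [Subgroup.orderOf_coe, hx] at h1
    exact absurd h1 (by decide)
  have hcard : Nat.card π.ker * Nat.card N = Nat.card f.ker := by
    rw [hker, ← Subgroup.relIndex_ker, QuotientGroup.ker_mk', relIndex,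
      ← Nat.card_congr (subgroupOfEquivOfLe hle).toEquiv]
    exact (N.subgroupOf f.ker).index_mul_card
  rw [← hcard] at hdvd
  have h1 : 2 ^ j ∣ Nat.card π.ker :=
    (Nat.Coprime.pow_left j (Nat.coprime_two_left.2 hodd)).dvd_of_dvd_mul_right hdvd
  have h2 := Nat.le_of_dvd Nat.card_pos h1
  omega

end Cfsg.Agent.KFacts.OddLift.Basic
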