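import Cfsg.Agent.KFacts.OddLift.SuzRel
set_option linter.all false

/-!
# The 2-part of the multiplier of the Suzuki group has order at most 2

`card_ker_le_two : Cov π → Nat.card π.ker ≤ 2` for `π : L →* Suz`, and the consequences for every finite perfect central
extension. `data_five`: the bound for the subgroup generated by the first five letters.
-/

set_option autoImplicit false
set_option maxRecDepth 100000
set_option linter.constructorNameAsVariable false

namespace Cfsg.Agent.KFacts.OddLift.SuzCov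

open Cfsg Cfsg.Spor Cfsg.Agent.SporRec.SuzPerm Cfsg.Agent.KFacts.OddLift.Basic Cfsg.Agent.KFacts.OddLift.SuzLet
open Cfsg.Agent.KFacts.OddLift.SuzRel
open Cfsg.Agent.SporadicRecognition.CosetCert Cfsg.Agent.SporadicRecognition.CosetCertHyp

universe u v

/-- the generators of the presented group -/
def x (g : Suz.Gen) : Suz :=
  PresentedGroup.mk (coxRelators Suz.edges ∪ {r | r ∈ Suz.extra}) (FreeGroup.of g)

/-- the letters -/
def b (i : ℕ) : Suz := ((bw i).map x).prod

theorem φ_x (g : Suz.Gen) : φ (x g) = gen g := φ_of g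

theorem φ_inj : Function.Injective φ := by
  have hs : IsSimpleGroup Suz := S1694.result.1
  rw [← MonoidHom.ker_eq_bot_iff]
  rcases hs.eq_bot_or_eq_top_of_normal φ.ker inferInstance with h | h
  · exact h
  · exfalso
    have h1 : x .a ∈ φ.ker := by rw [h]; trivial
    rw [MonoidHom.mem_ker, φ_x] at h1
    have h2 : ((gen .a (2 : Fin 1782) : Fin 1782) : ℕ) = 2 := by rw [h1]; rfl
    rw [gen_val] at h2
    have h3 : app (tab .a) 2 = 3 := by decide +kernel
    have h4 : ((2 : Fin 1782) : ℕ) = 2 := rfl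
    rw [h4, h3] at h2
    omega

theorem φ_b (i : ℕ) : φ (b i) = ((bw i).map gen).prod := by
  rw [b, map_list_prod, List.map_map]
  rfl

theorem φ_b_inv (i : ℕ) : (φ (b i))⁻¹ = ((bw i).reverse.map gen).prod := by
  have h1 : (fun p : Equiv.Perm (Fin 1782) => p⁻¹) ∘ gen = gen := funext fun y => gen_inv y
  rw [φ_b, List.prod_inv_reverse, List.map_map, ← List.map_reverse]
  exact congrArg (fun f => (List.map f (bw i).reverse).prod) h1

theorem val_of {p : Equiv.Perm (Fin 1782)} {v : List Suz.Gen} {y : ℕ} (hp : p = (v.map gen).prod)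
    (h : chkW v [y] = true) (i : Fin 1782) : ((p i : Fin 1782) : ℕ) = app (T y) i := by
  rw [hp, prod_val, chkW_spec h i.2, trT_cons, trT_nil]

theorem pt_val {y : ℕ} (hy : y < 12) (i : Fin 1782) :
    ((lt (fun i => φ (b i)) 6 y i : Fin 1782) : ℕ) = app (T y) i := by
  have he : ∀ {k : ℕ}, k < 6 → lt (fun i => φ (b i)) 6 (2 * k) = φ (b k) := by
    intro k hk
    rw [lt_even _ _ (by omega) (by omega)]
    have : 2 * k / 2 = k := by omega
    rw [this]
  have ho : ∀ {k : ℕ}, k < 6 → lt (fun i => φ (b i)) 6 (2 * k + 1) = (φ (b k))⁻¹ := by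
    intro k hk
    rw [lt_odd _ _ (by omega) (by omega)]
    have : (2 * k + 1) / 2 = k := by omega
    rw [this]
  interval_cases y
  · exact val_of ((he (k := 0) (by norm_num)).trans (φ_b 0)) tab0 i
  · exact val_of ((ho (k := 0) (by norm_num)).trans (φ_b_inv 0)) tab1 i
  · exact val_of ((he (k := 1) (by norm_num)).trans (φ_b 1)) tab2 i
  · exact val_of ((ho (k := 1) (by norm_num)).trans (φ_b_inv 1)) tab3 i
  · exact val_of ((he (k := 2) (by norm_num)).trans (φ_b 2)) tab4 i
  · exact val_of ((ho (k := 2) (by norm_num)).trans (φ_b_inv 2)) tab5 i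
  · exact val_of ((he (k := 3) (by norm_num)).trans (φ_b 3)) tab6 i
  · exact val_of ((ho (k := 3) (by norm_num)).trans (φ_b_inv 3)) tab7 i
  · exact val_of ((he (k := 4) (by norm_num)).trans (φ_b 4)) tab8 i
  · exact val_of ((ho (k := 4) (by norm_num)).trans (φ_b_inv 4)) tab9 i
  · exact val_of ((he (k := 5) (by norm_num)).trans (φ_b 5)) tab10 i
  · exact val_of ((ho (k := 5) (by norm_num)).trans (φ_b_inv 5)) tab11 i

theorem ev_val {w : List ℕ} (hw : ∀ y ∈ w, y < 12) (i : Fin 1782) :
    ((ev (lt (fun i => φ (b i)) 6) w i : Fin 1782) : ℕ) = trT w i := by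
  induction w with
  | nil => rfl
  | cons y w ih =>
    rw [ev_cons, Equiv.Perm.mul_apply, pt_val (hw y List.mem_cons_self), ih fun z hz => hw z (List.mem_cons_of_mem _ hz),
      trT_cons]

/-- words checked on the points are trivial in `Suz` -/
theorem ev_one {w : List ℕ} (hw : ∀ y ∈ w, y < 12) (h : chkT w = true) : ev (lt b 6) w = 1 := by
  apply φ_inj
  rw [map_ev_lt, map_one]
  ext i
  rw [ev_val hw, chkT_spec h i.2]
  rfl

theorem ev_gw {g : Suz.Gen} {w : List ℕ} (hw : ∀ y ∈ w, y < 12) (h : chkW [g] w = true) :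
    x g = ev (lt b 6) w := by
  apply φ_inj
  rw [map_ev_lt, φ_x]
  ext i
  rw [ev_val hw, ← chkW_spec h i.2, gen_val]
  rfl

theorem rels_of {rels : List (List ℕ)} (h1 : (rels.all fun r => chkT r) = true)
    (h2 : (rels.all fun r => r.all fun y => Nat.blt y 12) = true) : ∀ r ∈ rels, ev (lt b 6) r = 1 :=
  fun r hr => ev_one (all_lt (List.all_eq_true.1 h2 r hr)) (List.all_eq_true.1 h1 r hr)

theorem rels_two : ∀ r ∈ SuzTwoData.rels, ev (lt b 6) r = 1 := rels_of chk_two (by decide +kernel)
theorem rels_thr : ∀ r ∈ SuzThrData.rels, ev (lt b 6) r = 1 := rels_of chk_thr (by decide +kernel)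
theorem rels_fou : ∀ r ∈ SuzFouData.rels, ev (lt b 6) r = 1 := rels_of chk_fou (by decide +kernel)
theorem rels_fiv : ∀ r ∈ SuzFivData.rels, ev (lt b 6) r = 1 := rels_of chk_fiv (by decide +kernel)
theorem rels_six : ∀ r ∈ SuzSixData.rels, ev (lt b 6) r = 1 := rels_of chk_six (by decide +kernel)
theorem rels_comms : ∀ r ∈ comms ws, ev (lt b 6) r = 1 := rels_of chk_comms (by decide +kernel)

theorem b_cube (i : ℕ) : b i ^ 3 = 1 := by
  by_cases hi : i < 6
  · have h1 : ev (lt b 6) [2 * i, 2 * i, 2 * i] = 1 :=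
      ev_one (by simp; omega) (List.all_eq_true.1 chk_cube i (List.mem_range.2 hi))
    rw [ev_cons, ev_cons, ev_cons, ev_nil, mul_one, lt_even b 6 (by omega) (by omega)] at h1
    have : 2 * i / 2 = i := by omega
    rw [this] at h1
    rw [pow_succ, pow_succ, pow_one, mul_assoc]
    exact h1
  · obtain ⟨j, rfl⟩ : ∃ j, i = j + 6 := ⟨i - 6, by omega⟩
    have : b (j + 6) = 1 := rfl
    rw [this, one_pow]

theorem b_odd (i : ℕ) : Odd (orderOf (b i)) :=
  Odd.of_dvd_nat (by decide : Odd 3) (orderOf_dvd_of_pow_eq_one (b_cube i))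

theorem ev_mem (n : ℕ) {w : List ℕ} (hw : ∀ y ∈ w, y < 2 * n) (hn : n ≤ 6) : ev (lt b 6) w ∈ clo b n := by
  rw [← ev_lt_congr b hn hw]
  clear hw
  induction w with
  | nil => exact one_mem _
  | cons y w ih => rw [ev_cons]; exact mul_mem (lt_mem b n) ih

theorem x_mem_five {g : Suz.Gen} (hg : g ≠ .g) : x g ∈ clo b 5 := by
  cases g
  · rw [ev_gw (all_lt (by decide +kernel)) gw_a]; exact ev_mem 5 (all_lt (by decide +kernel)) (by norm_num)
  · rw [ev_gw (all_lt (by decide +kernel)) gw_b]; exact ev_mem 5 (all_lt (by decide +kernel)) (by norm_num)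
  · rw [ev_gw (all_lt (by decide +kernel)) gw_c]; exact ev_mem 5 (all_lt (by decide +kernel)) (by norm_num)
  · rw [ev_gw (all_lt (by decide +kernel)) gw_d]; exact ev_mem 5 (all_lt (by decide +kernel)) (by norm_num)
  · rw [ev_gw (all_lt (by decide +kernel)) gw_e]; exact ev_mem 5 (all_lt (by decide +kernel)) (by norm_num)
  · rw [ev_gw (all_lt (by decide +kernel)) gw_f]; exact ev_mem 5 (all_lt (by decide +kernel)) (by norm_num)
  · exact absurd rfl hg

theorem clo_mono {G : Type*} [Group G] (B : ℕ → G) {m n : ℕ} (h : m ≤ n) : clo B m ≤ clo B n :=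
  Subgroup.closure_mono fun _ ⟨i, hi, he⟩ => ⟨i, hi.trans_le h, he⟩

theorem x_mem_six (g : Suz.Gen) : x g ∈ clo b 6 := by
  by_cases hg : g = .g
  · subst hg
    rw [ev_gw (all_lt (by decide +kernel)) gw_g]; exact ev_mem 6 (all_lt (by decide +kernel)) (by norm_num)
  · exact clo_mono b (by norm_num) (x_mem_five hg)

theorem clo_six : clo b 6 = ⊤ := by
  rw [eq_top_iff, ← PresentedGroup.closure_range_of, Subgroup.closure_le]
  rintro _ ⟨g, rfl⟩
  exact x_mem_six g

section Chain

variable {L X : Type*} [Group L] [Group X] {π : L →* X} {c : ℕ → X} {B : ℕ → L}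

/-- The chain up to the fifth letter, for five elements satisfying the relators. -/
theorem data_five (h : Cov π) (hB : ∀ i, π (B i) = c i) (hBo : ∀ i, Odd (orderOf (B i)))
    (hc : c 0 ^ 3 = 1)
    (h2 : ∀ r ∈ SuzTwoData.rels, ev (lt c 6) r = 1) (h3 : ∀ r ∈ SuzThrData.rels, ev (lt c 6) r = 1)
    (h4 : ∀ r ∈ SuzFouData.rels, ev (lt c 6) r = 1) (h5 : ∀ r ∈ SuzFivData.rels, ev (lt c 6) r = 1) :
    Finite (clo B 5) ∧ Nat.card (clo B 5) ≤ 2 * 251596800 := by
  have hno : ∀ u ∈ ([] : List (List ℕ)), Odd (orderOf (ev (lt c 6) u)) := fun u hu => by simp at hu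
  have e1 : B 0 ^ 3 = 1 := by
    refine h.eq_of_odd (odd_pow (hBo 0) 3) (by rw [orderOf_one]; exact odd_one) ?_
    rw [map_pow, hB, hc, map_one]
  have s1 := base (B := B) (by norm_num : 0 < 3) e1
  have s2 := step SuzTwoData.C SuzTwoData.rels SuzTwoData.subw (n := 2) (m := 1) (k := 6) (by norm_num)
    (by decide +kernel) (h.rels_eq_one hB hBo hno (by decide +kernel) h2) SuzTwoAll.part s1
  have s3 := step SuzThrData.C SuzThrData.rels SuzThrData.subw (n := 3) (m := 2) (k := 6) (by norm_num)
    (by decide +kernel) (h.rels_eq_one hB hBo hno (by decide +kernel) h3) SuzThrAll.part s2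
  have s4 := step SuzFouData.C SuzFouData.rels SuzFouData.subw (n := 4) (m := 3) (k := 6) (by norm_num)
    (by decide +kernel) (h.rels_eq_one hB hBo hno (by decide +kernel) h4) SuzFouAll.part s3
  have s5 := step SuzFivData.C SuzFivData.rels SuzFivData.subw (n := 5) (m := 4) (k := 6) (by norm_num)
    (by decide +kernel) (h.rels_eq_one hB hBo hno (by decide +kernel) h5) SuzFivAll.part s4
  exact ⟨s5.1, s5.2.trans (by norm_num)⟩

end Chain

/-- **Every central extension of `Suz` by a 2-group which is perfect has a kernel of order at most 2.** -/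
theorem card_ker_le_two {L : Type u} [Group L] {π : L →* Suz} (h : Cov π) : Finite L ∧ Nat.card π.ker ≤ 2 := by
  obtain ⟨B, hB, hBo⟩ := h.exists_lifts b_odd
  have s5 := data_five h hB hBo (b_cube 0) rels_two rels_thr rels_fou rels_fiv
  have hno : ∀ u ∈ ([] : List (List ℕ)), Odd (orderOf (ev (lt b 6) u)) := fun u hu => by simp at hu
  have h6 : ∀ r ∈ SuzSixData.rels, ev (lt B 6) r = 1 := by
    intro r hr
    have h0 : (SuzSixData.rels.all fun r => okr [] r || r == ws.flatten) = true := by decide +kernel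
    have h1 := List.all_eq_true.1 h0 r hr
    rw [Bool.or_eq_true, beq_iff_eq] at h1
    rcases h1 with h1 | h1
    · exact h.ev_eq_one hB hBo hno h1 (rels_six r hr)
    · rw [h1]
      exact h.prod_eq_one hB hBo rels_comms okProd_ws (by rw [← h1]; exact rels_six r hr)
  have s6 := step SuzSixData.C SuzSixData.rels SuzSixData.subw (n := 6) (m := 5) (k := 6) (by norm_num)
    (by decide +kernel) h6 SuzSixAll.part s5
  have hX : Nat.card Suz = 448345497600 := S1694.result.2
  refine h.card_ker_le hB clo_six (by rw [hX]; norm_num) ⟨s6.1, s6.2.trans (by rw [hX])⟩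

/-- The same for a group isomorphic to `Suz`. -/
theorem card_ker_le_two_of_iso {X : Type v} [Group X] (e : X ≃* Suz) {L : Type u} [Group L] {π : L →* X}
    (h : Cov π) : Finite L ∧ Nat.card π.ker ≤ 2 := by
  have hk : (e.toMonoidHom.comp π).ker = π.ker := by
    ext x
    rw [MonoidHom.mem_ker, MonoidHom.mem_ker]
    exact map_eq_one_iff e e.injective
  have h1 : Cov (e.toMonoidHom.comp π) :=
    ⟨e.surjective.comp h.surj, by rw [hk]; exact h.central, by rw [hk]; exact h.two, h.perfect⟩
  have h2 := card_ker_le_two h1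
  rwa [hk] at h2

/-- **Bound**: the 2-part of the multiplier of `Suz` is at most 2. -/
theorem not_four_dvd {X : Type v} [Group X] (e : X ≃* Suz) {K : Type u} [Group K] [Finite K]
    (hK : commutator K = ⊤) {f : K →* X} (hf : Function.Surjective f) (hZ : f.ker ≤ Subgroup.center K) :
    ¬ 4 ∣ Nat.card f.ker :=
  not_dvd_of_cov (e := 3) (j := 2) (fun L _ _ π h => by
    have := (card_ker_le_two_of_iso e h).2
    omega) hK hf hZ (by norm_num)

end Cfsg.Agent.KFacts.OddLift.SuzCov
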