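import Cfsg.Agent.ChevalleyStructure.Tits.Main
import Cfsg.Agent.KFacts.OddLift.TitTwoData_mg
import Cfsg.Agent.KFacts.OddLift.TitFouData
import Cfsg.Agent.KFacts.MulDef
import Cfsg.Agent.KFacts.OddLift.Step
set_option linter.all false

-- part: KFacts/OddLift/TitMat
section
/-!
# Packed matrices of four letters of odd order of the Tits group

`a` of order 13, `t` of order 3 normalizing `⟨a⟩`, `c` of order 3 with `⟨a, t, c⟩` of order 5616 (`L₃(3)`), `d` of
order 3. `P (2 i)`: matrix of the letter `i`, `P (2 i + 1)`: of its inverse.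
-/

set_option autoImplicit false

namespace Cfsg.Agent.KFacts.OddLift.TitMat

open Cfsg.Agent.ChevalleyStructure.Tits.Pack Cfsg.Agent.ChevalleyStructure.Tits.Data

/-- packed matrices of the letters and their inverses -/
def Ps : List ℕ := [
  0x4000000000000a10040000000080010000000000100000000000200000000000080000000000000000800000000108010000000010200000000000080000000000004020004000010000000000000040080000000000020000000000400000000000a080080000000800020000000041004002020f000800000000000140000080030010000020000020000000000004040020000000800000000000000001401010000000400000000000010000400000400000000000100000000000000000010000040000000000000000040000000000010000000000200100200000020004000000000001000000000000080408000020000000000000000801000000000000400000000008000000000000100000000000028081000000002000400000000000800000000008000000000002000000000000000020041000000000b001000000000c00000000000030010000000001,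
  0x40000000000080000000000000800000000000001000000000000000100000000000000200000000004000000010000000000000040000000000000200000000000900000000000000000800000000020000000000000010000000000000004000240000000000002000000000005c0000000000000040000000000150000000000000a0000000000000004000000000081000000000000000800000001250000000000000010000000000212000000000000010000000000000080000000000240000000000000020000000000040000000000000400026000000000000008080000000000004000000000101800002000000000100000000000540000000000002800000000000008000000020800000000484a00006000000858000000000000098000000000000120000000000001000000000002e00000000a0000a000000020000e00000008000030000000800001,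
  0xb3887a84625925e997965daba3c800c6810064e10803804420808c118341b0f317590bde4faaff56997f64dacf8017230103e800114c180459003107a08141e880009800005a800019e00106d8830092001075880016a30102600011ce18141c083246288895aba1246201e18607196988a77daba50136381425881101828183e80210180814188804b97e168d11018482a24961e30f81ecf599969f56997d77dae48226201820604156984cf7dacf000822008410001134300c248010098100c7c802c787642ac142a0893250ad1521c96abe75fcabe0136301c3d0010114301c758800066000c0680001f8300075880114c08103c88311ce180438803115638083a0810018301c4d0832462c8ab9fea76ee1d8bdbb070f878cf351feaf112e00183b803cf14472330b1b0666c8ca9f6dec1f99d7f0bb6f239af18e73fdb307881d0c3256008a00104d082008a300c4b081,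
  0x75bb0cd17b79f9fa7cc53e3fa1d41a37110664f01b400145a083a014802290935eba929d6ffb6d4bbcedd447554107c301c1e80011160804190031088000826882013e300c7a80111e220184f80310f620185780010f6300c38800011428001d08357ddcdbf63fa9afbb3dcffb1e0f27af71200006014e301443082118e3808000021126001c7a801aef5453f6bea2c0f905ff63fa956921615a0a5fb8f8a3a563fad39a918da7fd52b8f9f5900664100e0001c4308001d63004618820196180c208826eec45bc4b4f7cef900fee3bce8544e9284152010ca08047a80310ee100449000117020186f0030196301c1e800101a10042280000f8000063800005028005c08310f610046980074f4573a6bcb776f8555be3fa33ded90b87b1e210e01018430800e0002818021fbced55b84b6e2b8f950da639d1cb7b30926bacbf951499051e4711e21004490021160200849001,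
  0x660c1838773800000003066000660c00c18030001a300c5e8810ef9f60183bc0dbdd487be81d20ef9f19f386780000000c180000018300000880007c38001f00000183000060001160301837080001a3010608811160000c4008200ee280c3d0820660c000811000660c1ec180380660c18c18038007a300c59881001a3000408810060000018000c899308204c9508810001022003bdd8f3be86d60881061326640e00039e000708c000318000608118200146a00101dc0000680001198000c780826ddcbca068203d5ca9497ed754b6002960005070064080c190001102000448001111c000c5f0821118000c5e082109220142200200902010228801000000c000821052000c15082f55eb8a74ee94d55ab087cff942600086c001301042000c118828010200204c958c00211b804d588002113004f515588104cf1a61dc18617ef75b007c080c1f081001a000006802,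
  0xff54b8b34ceda8810201304cd5c100b1805870811d8200c790810cc382008331e067cffcc775bbe61dbfac374bb1040000c11082110a00044a001007808000e083011800004e083001e381442881111a20144a8810060380058000001c380c3008055409084c931fc704b1cc59738e704b9ac5963811be280460881119a20046888100600800180000aa14281022000881020102200067cfe236ec93c019368326c9500000180181080000c1801810800020000420010000000c1f0800060000c5f08000000003877500660c083c755f000001e0007081124080c50082000a1000420010018300c570830178300c17083000200146a001110210146a0010060380040000001c380028000088b1097ed7515febc017ad55ec16079e04070811bc2800280000aa1428000000067cfe2068203e67dbe2068203e66588a0480060018360366c9b0004080c1008111b8200060002,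
  0x9adcaa6aecf68edb3d130ecf6aa4a206a38000c1048281c2f80196ceae3a7d2a39edeab2969f38c99150932a85311fa10042f8011094080874003101c2808288001158380c07001105a28043a881017218186108111ba100428800009820104c083cef8f202e5dca5cbd6bea2d85aae156fdf2d856116010085108010f6381851082114c10102f801f525d928196a2c8e2f470fcb6a266080c0c121f97bc77205870478dfeb09e9f32aa57ef9cebf6701ea18041e8800178380c6980001ea0818490825fc7daaa1f6e3000135937ad585fc6ed2a4152b101638042a00210ee38044f8020026000c53081110e101879081015e300c228010098300c47001015e20100d0830000101c7188278f9a3ca65a55c0f8f5ff65a592646c886cfdc8017828104f8025fc6b55ce5a5f000048ef5e4f65fc782dcbbb67341a29c77c8df6b684593fd78e01c6300c5e0030092001851083,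
  0x7760929366606c1614e60663b0feaacc57c94b70198280c5800288538748f72bbb79857ec3e3ba4933cf28f72bb112418102a88011dc301c14882106e08100c88110c4081045881109638106a8810118080c09003013210103b880115c300c51003b8ee06d485878554092126464f5febc017ad55e016e18002c8810178300c170831190201850082542f796d76b72e67c00cf01815cee0c4834644f271d8f2f7faad93ba570fbd3d325118d4a741c9100638081f0800176181c3480110e610084e0815c2d7f6ff1c29ae5746e8ef3b393bade2771c2300be28083880300be00180300110f438106e88010e210087f802100c380c3080010a4381c1c881004428086180310b0381434801b8ef7d8ef1b1ab8ef79bbf4366b2fb7e4fd963a0016001c2f8800a0206a20706cb6ef7a6df1c290414056aad7f3e3561d9e7084f3cdf80d1f22fe00f800105d8831186200841003]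

/-- packed matrix of a letter -/
def P (y : ℕ) : ℕ := Ps.getD y 0

/-- words of the letters -/
def yws : List (List ℕ) := [[1, 1, 8, 9], [5, 3, 8, 9, 8, 9, 8, 0, 4, 5, 9, 8, 0, 9, 7, 9], [0, 7, 8, 0, 3, 9, 8, 9, 8, 9, 7, 5, 8],
  [1, 2, 7, 9, 8, 9, 7, 8, 9, 8, 0, 5, 2, 6]]

/-- word of a letter -/
def yw (i : ℕ) : List ℕ := yws.getD i []

/-- packed matrix of a word in the letters -/
def evP (r : List ℕ) : ℕ := r.foldr (fun y acc => mulP (P y) acc) oneP

theorem yw_ok : (List.range 4).all (fun i => Nat.beq (evalW (yw i)) (P (2 * i))) = true := by decide +kernel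

theorem yw_lt : (List.range 4).all (fun i => (yw i).all fun j => Nat.blt j 10) = true := by decide +kernel

theorem inv_ok : (List.range 4).all (fun i => Nat.beq (mulP (P (2 * i)) (P (2 * i + 1))) oneP) = true := by
  decide +kernel

/-- all relators -/
def rels : List (List ℕ) := TitTwoData.rels ++ (TitThrData.rels ++ TitFouData.rels)

theorem rels_ok : rels.all (fun r => Nat.beq (evP r) oneP) = true := by decide +kernel

theorem rels_lt : rels.all (fun r => r.all fun y => Nat.blt y 8) = true := by decide +kernel

/-- words in the subgroup -/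
def kws : List (ℕ × List ℕ) := [(0, [5, 0, 5, 7, 0, 7, 0, 3, 7, 4]), (8, [0, 7, 3, 5, 1, 7, 3, 4, 7, 2, 5]),
  (9, [0, 0, 6, 1, 3, 4, 0, 6, 5, 2, 0, 4])]

theorem kws_ok : kws.all (fun p => Nat.beq (evP p.2) (LP p.1)) = true := by decide +kernel

theorem kws_lt : kws.all (fun p => p.2.all fun y => Nat.blt y 8) = true := by decide +kernel

/-- conjugates of the letters under `y 7` -/
def cws : List (List ℕ) := [[1, 7, 2, 1, 6, 5, 1, 6, 0], [3, 6, 0, 4, 7, 0, 0, 7, 5], [4, 1, 1, 4, 6, 1, 7, 3, 0, 5],
  [1, 1, 7, 0, 5, 3, 0, 6, 0, 0]]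

/-- conjugate of a letter -/
def cw (i : ℕ) : List ℕ := cws.getD i []

theorem cws_ok : (List.range 4).all (fun i => Nat.beq (mulP (evP (cw i)) (LP 7)) (mulP (LP 7) (P (2 * i)))) = true := by
  decide +kernel

theorem cws_lt : (List.range 4).all (fun i => (cw i).all fun y => Nat.blt y 8) = true := by decide +kernel

end Cfsg.Agent.KFacts.OddLift.TitMat
end

-- part: KFacts/OddLift/TitGen
section
/-!
# Four letters of odd order of the Tits group: relators, generation
-/

set_option autoImplicit false
set_option linter.style.haveILetI false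

namespace Cfsg.Agent.KFacts.OddLift.TitGen

open Subgroup Cfsg.Agent.KFacts.MulDef Cfsg.Agent.KFacts.OddLift.Basic Cfsg.Agent.KFacts.OddLift.TitMat
open Cfsg.Agent.SporadicRecognition.CosetCert Cfsg.Agent.SporadicRecognition.CosetCertHyp
open Cfsg.Agent.ChevalleyStructure.Tits.Pack Cfsg.Agent.ChevalleyStructure.Tits.Data
  Cfsg.Agent.ChevalleyStructure.Tits.Mat Cfsg.Agent.ChevalleyStructure.Tits.Order
  Cfsg.Agent.ChevalleyStructure.Tits.Main

open scoped MatrixGroups

/-! ### the letters in the matrix group -/

/-- the letters as matrices -/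
noncomputable def β (i : ℕ) : GL I52 (ZMod 2) := W (yw i)

theorem yw_lt' {i : ℕ} (hi : i < 4) : ∀ j ∈ yw i, j < 10 := by
  have h := yw_lt
  rw [List.all_eq_true] at h
  have h2 := h i (List.mem_range.2 hi)
  rw [List.all_eq_true] at h2
  intro j hj
  have := h2 j hj
  rwa [Nat.blt_eq] at this

theorem coe_β {i : ℕ} (hi : i < 4) : ((β i : GL I52 (ZMod 2)) : Matrix I52 I52 (ZMod 2)) = toMat (P (2 * i)) := by
  have h := yw_ok
  rw [List.all_eq_true] at h
  have h2 := Nat.eq_of_beq_eq_true (h i (List.mem_range.2 hi))
  rw [← h2, toMat_evalW]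
  exact coe_word _ fun j hj => (yw_lt' hi j hj).trans (by norm_num)

theorem coe_β_inv {i : ℕ} (hi : i < 4) :
    (((β i)⁻¹ : GL I52 (ZMod 2)) : Matrix I52 I52 (ZMod 2)) = toMat (P (2 * i + 1)) := by
  have h := inv_ok
  rw [List.all_eq_true] at h
  have h2 := Nat.eq_of_beq_eq_true (h i (List.mem_range.2 hi))
  have h3 : (β i : Matrix I52 I52 (ZMod 2)) * toMat (P (2 * i + 1)) = 1 := by
    rw [coe_β hi, ← toMat_mulP, h2, toMat_oneP]
  calc (((β i)⁻¹ : GL I52 (ZMod 2)) : Matrix I52 I52 (ZMod 2))
      = ((β i)⁻¹ : GL I52 (ZMod 2)) * ((β i : Matrix I52 I52 (ZMod 2)) * toMat (P (2 * i + 1))) := by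
        rw [h3, Matrix.mul_one]
    _ = toMat (P (2 * i + 1)) := by
        rw [← Matrix.mul_assoc, ← Units.val_mul, inv_mul_cancel, Units.val_one, Matrix.one_mul]

theorem coe_lt {y : ℕ} (hy : y < 8) :
    ((lt β 4 y : GL I52 (ZMod 2)) : Matrix I52 I52 (ZMod 2)) = toMat (P y) := by
  rcases Nat.mod_two_eq_zero_or_one y with h | h
  · rw [lt_even β 4 (by omega) h, coe_β (by omega)]
    congr 2
    omega
  · rw [lt_odd β 4 (by omega) h, coe_β_inv (by omega)]
    congr 2
    omega

theorem coe_ev {r : List ℕ} (hr : ∀ y ∈ r, y < 8) :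
    ((ev (lt β 4) r : GL I52 (ZMod 2)) : Matrix I52 I52 (ZMod 2)) = toMat (evP r) := by
  induction r with
  | nil =>
    rw [ev_nil, Units.val_one]
    exact toMat_oneP.symm
  | cons y r ih =>
    have h : evP (y :: r) = mulP (P y) (evP r) := rfl
    rw [ev_cons, Units.val_mul, ih fun z hz => hr z (List.mem_cons_of_mem _ hz), coe_lt (hr y List.mem_cons_self), h,
      toMat_mulP]

theorem all_lt8 {r : List ℕ} (h : (r.all fun y => Nat.blt y 8) = true) : ∀ y ∈ r, y < 8 := by
  rw [List.all_eq_true] at h
  intro y hy
  have := h y hy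
  rwa [Nat.blt_eq] at this

theorem rels_β : ∀ r ∈ TitMat.rels, ev (lt β 4) r = 1 := by
  intro r hr
  have h1 := TitMat.rels_ok
  rw [List.all_eq_true] at h1
  have h2 := TitMat.rels_lt
  rw [List.all_eq_true] at h2
  apply Units.ext
  rw [coe_ev (all_lt8 (h2 r hr)), Nat.eq_of_beq_eq_true (h1 r hr), toMat_oneP, Units.val_one]

theorem β_mem (i : ℕ) : β i ∈ H0 := by
  by_cases hi : i < 4
  · exact word_mem _ (yw_lt' hi)
  · have : yw i = [] := by
      unfold yw
      exact List.getD_eq_default _ _ (by rw [show yws.length = 4 from rfl]; omega)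
    unfold β
    rw [this, W_nil]
    exact H0.one_mem

/-- orders of the letters -/
def od (i : ℕ) : ℕ := if i = 0 then 13 else 3

theorem od_odd (i : ℕ) : Odd (od i) := by
  unfold od
  split <;> decide

theorem rep_ok : (List.range 4).all (fun i => TitMat.rels.contains (List.replicate (od i) (2 * i))) = true := by
  decide +kernel

theorem ev_replicate {G : Type*} [Group G] (g : ℕ → G) (n y : ℕ) : ev g (List.replicate n y) = g y ^ n := by
  unfold ev
  rw [List.map_replicate, List.prod_replicate]

theorem β_pow (i : ℕ) : β i ^ od i = 1 := by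
  by_cases hi : i < 4
  · have h := rep_ok
    rw [List.all_eq_true] at h
    have h2 := rels_β _ (List.contains_iff_mem.1 (h i (List.mem_range.2 hi)))
    rw [ev_replicate, lt_even β 4 (by omega) (by omega)] at h2
    have h3 : 2 * i / 2 = i := by omega
    rwa [h3] at h2
  · have : yw i = [] := by
      unfold yw
      exact List.getD_eq_default _ _ (by rw [show yws.length = 4 from rfl]; omega)
    unfold β
    rw [this, W_nil, one_pow]

/-! ### the letters in the simple group -/

theorem mem_of_index_two {G : Type*} [Group G] {N : Subgroup G} (hN : N.index = 2) {x : G} {n : ℕ} (hn : Odd n)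
    (hx : x ^ n = 1) : x ∈ N := by
  obtain ⟨k, hk⟩ := hn
  have h1 : x * x ∈ N := mul_self_mem_of_index_two hN x
  have h2 : x ^ n * x = (x * x) ^ (k + 1) := by
    rw [← pow_two, ← pow_mul, ← pow_succ, hk]
    congr 1
  rw [hx, one_mul] at h2
  rw [h2]
  exact N.pow_mem h1 _

/-- the letters as elements of `H0` -/
noncomputable def bH (i : ℕ) : H0 := ⟨β i, β_mem i⟩

theorem bH_pow (i : ℕ) : bH i ^ od i = 1 := Subtype.ext (β_pow i)

/-- the letters as elements of the simple group -/
noncomputable def b (i : ℕ) : commutator H0 := ⟨bH i, mem_of_index_two H0_result.1 (od_odd i) (bH_pow i)⟩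

theorem coe_b (i : ℕ) : (commutator H0).subtype (b i) = bH i := by
  rw [subtype_apply]
  rfl

theorem b_odd (i : ℕ) : Odd (orderOf (b i)) :=
  Odd.of_dvd_nat (od_odd i) (orderOf_dvd_of_pow_eq_one (Subtype.ext (bH_pow i)))

theorem coe_ev_b (r : List ℕ) : ((ev (lt b 4) r : commutator H0) : H0) = ev (lt bH 4) r :=
  map_ev_lt b 4 (commutator H0).subtype r

theorem coe_ev_bH (r : List ℕ) : ((ev (lt bH 4) r : H0) : GL I52 (ZMod 2)) = ev (lt β 4) r :=
  map_ev_lt bH 4 H0.subtype r

theorem rels_b : ∀ r ∈ TitMat.rels, ev (lt b 4) r = 1 := by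
  intro r hr
  apply Subtype.ext
  rw [coe_ev_b]
  apply Subtype.ext
  rw [coe_ev_bH, rels_β r hr]
  rfl

/-! ### generation -/

theorem ev_mem {G : Type*} [Group G] (b : ℕ → G) (n : ℕ) (r : List ℕ) : ev (lt b n) r ∈ clo b n := by
  induction r with
  | nil => rw [ev_nil]; exact one_mem _
  | cons y r ih => rw [ev_cons]; exact mul_mem (lt_mem b n) ih

theorem ev_kws {i : ℕ} {w : List ℕ} (hw : (i, w) ∈ kws) (hi : i < 10) : ev (lt bH 4) w = yH i := by
  have h1 := kws_ok
  rw [List.all_eq_true] at h1
  have h2 := kws_lt
  rw [List.all_eq_true] at h2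
  apply Subtype.ext
  rw [coe_ev_bH, coe_yH hi]
  apply Units.ext
  rw [coe_ev (all_lt8 (h2 _ hw)), coe_yG (by omega), LM, Nat.eq_of_beq_eq_true (h1 _ hw)]

theorem ev_cw {i : ℕ} (hi : i < 4) : ev (lt bH 4) (cw i) = yH 7 * bH i * (yH 7)⁻¹ := by
  have h1 := cws_ok
  rw [List.all_eq_true] at h1
  have h2 := cws_lt
  rw [List.all_eq_true] at h2
  have h3 := Nat.eq_of_beq_eq_true (h1 i (List.mem_range.2 hi))
  rw [eq_mul_inv_iff_mul_eq]
  apply Subtype.ext
  rw [coe_mul, coe_mul, coe_ev_bH, coe_yH (by norm_num)]
  apply Units.ext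
  rw [Units.val_mul, Units.val_mul, coe_ev (all_lt8 (h2 i (List.mem_range.2 hi))), coe_yG (by norm_num), LM,
    ← toMat_mulP, h3, toMat_mulP]
  show _ = _ * ((β i : GL I52 (ZMod 2)) : Matrix I52 I52 (ZMod 2))
  rw [coe_β hi]

instance : Finite H0 := Nat.finite_of_card_ne_zero (by rw [card_H0]; norm_num)

theorem clo_normal : (clo bH 4).Normal := by
  have hk : ∀ i w, (i, w) ∈ kws → i < 10 → yH i ∈ clo bH 4 := fun i w hw hi => by
    rw [← ev_kws hw hi]
    exact ev_mem _ _ _
  have m0 := hk 0 [5, 0, 5, 7, 0, 7, 0, 3, 7, 4] (by decide) (by norm_num)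
  have m8 := hk 8 [0, 7, 3, 5, 1, 7, 3, 4, 7, 2, 5] (by decide) (by norm_num)
  have m9 := hk 9 [0, 0, 6, 1, 3, 4, 0, 6, 5, 2, 0, 4] (by decide) (by norm_num)
  have hle : clo bH 4 ≤ normalizer (clo bH 4 : Set H0) := le_normalizer
  have m7 : yH 7 ∈ normalizer (clo bH 4 : Set H0) := by
    apply mem_normalizer_fintype
    intro x hx
    have h : clo bH 4 ≤ (clo bH 4).comap (MulAut.conj (yH 7)).toMonoidHom := by
      unfold clo
      rw [closure_le]
      rintro _ ⟨i, hi, rfl⟩
      rw [SetLike.mem_coe, mem_comap, MulEquiv.coe_toMonoidHom, MulAut.conj_apply, ← ev_cw hi]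
      exact ev_mem _ _ _
    have h' := h hx
    rw [mem_comap, MulEquiv.coe_toMonoidHom, MulAut.conj_apply] at h'
    exact h'
  have h := Cfsg.Agent.ChevalleyStructure.Tits.Final.gen4 Sat_yH (normalizer (clo bH 4 : Set H0)) (hle m0) m7
    (hle m8) (hle m9)
  rw [gen_yH] at h
  exact normalizer_eq_top_iff.1 (top_le_iff.1 h)

theorem map_clo : (clo b 4).map (commutator H0).subtype = clo bH 4 := by
  unfold clo
  rw [MonoidHom.map_closure]
  congr 1
  ext x
  constructor
  · rintro ⟨_, ⟨i, hi, rfl⟩, rfl⟩
    exact ⟨i, hi, (coe_b i).symm⟩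
  · rintro ⟨i, hi, rfl⟩
    exact ⟨b i, ⟨i, hi, rfl⟩, coe_b i⟩

theorem clo_top : clo b 4 = ⊤ := by
  have hs : IsSimpleGroup (commutator H0) := H0_result.2.1
  have hn := clo_normal
  have hN : (clo b 4).Normal := ⟨fun x hx g => by
    have h1 : ((g * x * g⁻¹ : commutator H0) : H0) ∈ clo bH 4 := by
      have h2 : (x : H0) ∈ clo bH 4 := by
        rw [← map_clo]
        exact mem_map_of_mem _ hx
      rw [Subgroup.coe_mul, Subgroup.coe_mul, Subgroup.coe_inv]
      exact hn.conj_mem _ h2 _
    rw [← map_clo] at h1
    obtain ⟨z, hz, hzx⟩ := h1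
    have h3 : z = g * x * g⁻¹ := Subtype.ext hzx
    rwa [← h3]⟩
  rcases hN.eq_bot_or_eq_top with h | h
  · exfalso
    have h1 := map_clo
    rw [h, Subgroup.map_bot] at h1
    have h2 : yH 0 ∈ clo bH 4 := by
      rw [← ev_kws (i := 0) (w := [5, 0, 5, 7, 0, 7, 0, 3, 7, 4]) (by decide) (by norm_num)]
      exact ev_mem _ _ _
    rw [← h1, mem_bot] at h2
    exact yH_ne_one (by norm_num) h2
  · exact h

end Cfsg.Agent.KFacts.OddLift.TitGen
end
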